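import Cfsg.Agent.BLK.Go.Defs
import Cfsg.Agent.INV.GW.Cor
import Cfsg.Agent.INV.GW.CorQuat
import Cfsg.Agent.INV.ABG.Cover
import Cfsg.Agent.SIG.Quasisimple
import Cfsg.Agent.S0016

set_option autoImplicit false

namespace CL.Go

open Subgroup Cfsg in
theorem Lst.odd_bot {L : Type*} [Group L] [Finite L] (hq : Cfsg.IsQuasisimple L)
    (hZ : Nat.card (Subgroup.center L) = 2) {N : Subgroup L} (hN : N.Normal) (ho : (Nat.card N).Coprime 2) :
    N = ⊥ := by
  rcases hq.normal_top_or_le_center N hN with h | h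
  · have := card_dvd_of_le (h ▸ le_top : center L ≤ N)
    rw [hZ] at this
    exact absurd (Nat.eq_one_of_dvd_coprimes ho this dvd_rfl) (by norm_num)
  · have := card_dvd_of_le h
    rw [hZ] at this
    exact card_eq_one.1 (Nat.eq_one_of_dvd_coprimes ho dvd_rfl this)

open Subgroup Cfsg in
/-- Sylow 2-subgroups of `L` are quaternion (S0016; not cyclic as `L` is perfect), those of `L / Z(L)`
dihedral; Gorenstein-Walter S0483; a perfect central extension of `PSL₂(q)` by `Z₂` is `SL₂(q)`. -/
theorem quasi_list {L : Type*} [Group L] [Finite L] (hq : Cfsg.IsQuasisimple L) (hu : UniqInv L)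
    (hZ : Nat.card (Subgroup.center L) = 2) :
    (∃ (F : Type) (_ : Field F) (_ : Fintype F), Odd (Fintype.card F) ∧ 3 < Fintype.card F ∧
        Nonempty (L ≃* SL2 F)) ∨
      Nonempty (L ⧸ Subgroup.center L ≃* alternatingGroup (Fin 7)) := by
  classical
  obtain ⟨z, hz, hu⟩ := hu
  have := hq.2
  have cz : center L = zpowers z := by
    obtain ⟨t, ht⟩ := exists_prime_orderOf_dvd_card' (G := center L) 2 (hZ ▸ dvd_rfl)
    have tz : (t : L) = z := hu _ ((orderOf_coe t).trans ht)
    exact (eq_of_le_of_card_ge (zpowers_le.2 (tz ▸ t.2)) (by rw [hZ, Nat.card_zpowers, hz])).symm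
  have inv : ∀ x : L, x * x = 1 → x ∈ center L := fun x hx => by
    by_cases x1 : x = 1
    · exact x1 ▸ one_mem _
    · rw [cz, hu x (orderOf_eq_prime (by rw [pow_two, hx]) x1)]
      exact mem_zpowers z
  obtain ⟨S⟩ : Nonempty (Sylow 2 L) := inferInstance
  have nc : ¬ IsCyclic S := fun hc => by
    obtain ⟨P, N, hN, hP⟩ := GW.hasNPC_of_isCyclic S hc
    have e := Lst.odd_bot hq hZ hN ((Nat.Prime.coprime_iff_not_dvd Nat.prime_two).2
      (hP.index_eq_card ▸ P.not_dvd_index)).symm
    have t : (P : Subgroup L) = ⊤ := by simpa [e] using hP.sup_eq_top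
    have pg : IsPGroup 2 L := (t ▸ P.isPGroup' : IsPGroup 2 (⊤ : Subgroup L)).of_equiv topEquiv
    have := pg.isNilpotent
    exact hq.not_isSolvable inferInstance
  have o2 : ∀ H : Subgroup S, Nat.card H = 2 → H = (zpowers z).subgroupOf S := fun H hH => by
    refine eq_of_le_of_card_ge (fun x hx => mem_subgroupOf.2 (cz ▸ inv _ ?_)) ?_
    · have := pow_card_eq_one' (G := H) (x := ⟨x, hx⟩)
      rw [hH, pow_two] at this
      exact congrArg (fun y : H => ((y : S) : L)) this
    · rw [hH.trans ((Nat.card_zpowers z).trans hz).symm]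
      exact Nat.card_le_card_of_injective (fun y : (zpowers z).subgroupOf S => (⟨_, y.2⟩ : zpowers z))
        fun a b e => Subtype.ext (Subtype.ext (congrArg (fun y : zpowers z => (y : L)) e))
  obtain ⟨-, n, ⟨e⟩⟩ := (Cfsg.Agent.S0016.result 2 S.isPGroup' fun H K hH hK =>
    (o2 H hH).trans (o2 K hK).symm).resolve_left nc
  obtain _ | n := n
  · exact absurd (e.isCyclic.2 QuaternionGroup.quaternionGroup_one_isCyclic) nc
  obtain ⟨z', -, hz', -, hn, hD, -⟩ := GW.quat_quotient S e
  have key : ∀ (N : Subgroup L) (_ : N.Normal), N = center L → GW.D2 (L ⧸ N) → GW.D2 (L ⧸ center L) := by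
    rintro N hN rfl h
    exact h
  have hD' := key _ hn (by
    rw [Lst.odd_bot hq hZ inferInstance (coprime_card_pPrimeCore 2 L), sup_bot_eq, hu z' hz', cz]) hD
  rcases GW.known_of_simple hq.not_isMulCommutative_quotient_center hD' with ⟨q, ho, h3, F, iF, fF, rfl, ⟨ε⟩⟩ | h
  · refine Or.inl ⟨F, iF, fF, ho, h3, ?_⟩
    obtain ⟨ι, hι, -, h1⟩ := ABG.exists_iota ho (Z := center L) (fun y hy x => mem_center_iff.1 hy x)
      (IsPGroup.of_card (n := 1) hZ) (L := ⊤) (topEquiv.trans ε) (K := ⊤) (fun _ _ => trivial) fun x _ => inv x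
    have h2 : center L ≤ ι.range := by
      rw [cz, ← hu (ι (-1)) (orderOf_eq_prime (by rw [← map_pow]; simp) ?_)]
      · exact zpowers_le.2 ⟨_, rfl⟩
      · rw [Ne, map_eq_one_iff ι hι]
        intro h3
        have h4 := congrArg (fun m : Matrix.SpecialLinearGroup (Fin 2) F => m 0 0) h3
        have h5 : (2 : F) = 0 := by
          simp at h4
          linear_combination -h4
        have h6 : ringChar F = 2 := by
          by_contra h
          exact Ring.two_ne_zero h h5
        exact (Nat.not_even_iff_odd.2 ho) (Nat.even_iff.2 (FiniteField.even_card_of_char_two h6))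
    refine ⟨(MulEquiv.ofBijective ι ⟨hι, fun x => ?_⟩).symm⟩
    obtain ⟨s, c, hc, rfl⟩ := h1 x trivial
    exact mul_mem (⟨s, rfl⟩ : ι s ∈ ι.range) (h2 hc)
  · exact Or.inr h

end CL.Go
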