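import Cfsg.Agent.BLK.Go.Defs
import Cfsg.Agent.INV.ABG.Cover
import Cfsg.Agent.FGS.SchurBasic
import Cfsg.Agent.KSG.PSL2Basic

set_option autoImplicit false

namespace CL.Go.Lst2

/-- A quasisimple group with centre of order 2 and central quotient `PSL₂(q)`, `q` odd, is `SL₂(q)`. -/
theorem cover {L : Type*} [Group L] [Finite L] (hq : Cfsg.IsQuasisimple L)
    (hZ : Nat.card (Subgroup.center L) = 2) {F : Type} [Field F] [Fintype F]
    (ho : Odd (Fintype.card F)) (_h3 : 3 < Fintype.card F)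
    (e : L ⧸ Subgroup.center L ≃* Matrix.ProjectiveSpecialLinearGroup (Fin 2) F) :
    Nonempty (L ≃* SL2 F) := by
  classical
  let π : L →* Matrix.ProjectiveSpecialLinearGroup (Fin 2) F :=
    e.toMonoidHom.comp (QuotientGroup.mk' (Subgroup.center L))
  have hk : π.ker = Subgroup.center L := by
    ext x
    simp only [π, MonoidHom.mem_ker, MonoidHom.comp_apply, MulEquiv.coe_toMonoidHom,
      QuotientGroup.mk'_apply, EmbeddingLike.map_eq_one_iff, QuotientGroup.eq_one_iff]
  have hπ : CL.Schur.IsCentralExt π :=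
    ⟨e.surjective.comp (QuotientGroup.mk'_surjective _), hk.le⟩
  have hp : IsPGroup 2 π.ker := IsPGroup.of_card (n := 1) (by rw [hk, hZ, pow_one])
  obtain ⟨η, hη⟩ := CL.ABG.exists_lift_SL2 ho hπ hp (CL.GL2.pslMk F)
  have h1 : Function.Surjective η :=
    CL.Schur.surjective_of_over_stem CL.GL2.pslMk_surjective (hπ.isStem_of_perfect hq.1) η hη
  have h3 := CL.Schur.card_eq_card_ker_mul hπ.surj
  have h4 := (CL.GL2.card_SL2' (F := F)).trans CL.GL2.gcd_mul_card_PSL2.symm
  have h5 : Nat.gcd 2 (Fintype.card F - 1) = 2 := by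
    obtain ⟨k, hk'⟩ := ho
    rw [hk', Nat.add_sub_cancel]
    exact Nat.gcd_eq_left (Dvd.intro _ rfl)
  refine ⟨(MulEquiv.ofBijective η ((Nat.bijective_iff_surjective_and_card η).2 ⟨h1, ?_⟩)).symm⟩
  rw [h3, h4, h5, hk, hZ]

end CL.Go.Lst2
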